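import Cfsg.Agent.FGS4.SL2Redundant.Transfer
import Cfsg.Agent.Linear.SylowSL2
import Cfsg.Agent.S2428
import Cfsg.Agent.S2429

/-! # Redundant Sylow subgroups of `SL(2, q)` -/

namespace Cfsg.Agent.FGS4.SL2Redundant

open Matrix Cfsg.Agent.Dickson Subgroup

variable {F : Type*} [Field F]

/-- The standard trace-zero element. -/
def c0 : SL2 F := ⟨!![0, -1; 1, 0], by simp [det_fin_two]⟩

theorem exists_conjGL_of_tr_zero (h2 : (2 : F) ≠ 0) {A : SL2 F} (ht : tr A = 0) :
    ∃ g : GL (Fin 2) F, conjGL g c0 = A := by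
  simp only [tr] at ht
  have hd := det_eq A
  obtain ⟨P, hP, hdet⟩ : ∃ P : Matrix (Fin 2) (Fin 2) F,
      A.1 * P = P * !![0, -1; 1, 0] ∧ P.det ≠ 0 := by
    by_cases h10 : A 1 0 = 0
    · by_cases h01 : A 0 1 = 0
      · refine ⟨!![1, A 0 0; 1, A 1 1], ?_, ?_⟩
        · rw [h01, h10] at hd
          ext i j
          fin_cases i <;> fin_cases j <;> simp [Matrix.mul_apply, Fin.sum_univ_two, h01, h10]
          · linear_combination A 0 0 * ht - hd
          · linear_combination A 1 1 * ht - hd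
        · simp [det_fin_two]
          intro h
          rw [h01, h10] at hd
          have h00 : A 0 0 = 0 := (mul_eq_zero.mp (show (2 : F) * A 0 0 = 0 by
            linear_combination ht - h)).resolve_left h2
          simp [h00] at hd
      · refine ⟨!![0, A 0 1; 1, A 1 1], ?_, ?_⟩
        · ext i j
          fin_cases i <;> fin_cases j <;> simp [Matrix.mul_apply, Fin.sum_univ_two]
          · linear_combination A 0 1 * ht
          · linear_combination A 1 1 * ht - hd
        · simp [det_fin_two, h01]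
    · refine ⟨!![1, A 0 0; 0, A 1 0], ?_, ?_⟩
      · ext i j
        fin_cases i <;> fin_cases j <;> simp [Matrix.mul_apply, Fin.sum_univ_two]
        · linear_combination A 0 0 * ht - hd
        · linear_combination A 1 0 * ht
      · simp [det_fin_two, h10]
  refine ⟨GeneralLinearGroup.mkOfDetNeZero P hdet, ?_⟩
  set g := GeneralLinearGroup.mkOfDetNeZero P hdet with hg
  apply Subtype.ext
  show (g : Matrix (Fin 2) (Fin 2) F) * !![0, -1; 1, 0] * (↑g⁻¹ : Matrix (Fin 2) (Fin 2) F) = A.1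
  rw [show (g : Matrix (Fin 2) (Fin 2) F) = P from rfl, ← hP, Matrix.mul_assoc,
    show P * (↑g⁻¹ : Matrix (Fin 2) (Fin 2) F) = 1 from Units.mul_inv g, Matrix.mul_one]

variable [Fintype F]

theorem card_centralizer_of_tr_zero (h2 : (2 : F) ≠ 0) {A : SL2 F} (ht : tr A = 0) :
    Nat.card (centralizer ({A} : Set (SL2 F))) = Nat.card (centralizer ({c0} : Set (SL2 F))) := by
  obtain ⟨g, rfl⟩ := exists_conjGL_of_tr_zero h2 ht
  let e : SL2 F ≃* SL2 F :=
    MulEquiv.ofBijective (conjGL g) (Finite.injective_iff_bijective.1 (conjGL_injective g))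
  refine (Nat.card_congr (Equiv.subtypeEquiv e.toEquiv fun x => ?_)).symm
  rw [mem_centralizer_singleton_iff, mem_centralizer_singleton_iff]
  show _ ↔ conjGL g x * conjGL g c0 = conjGL g c0 * conjGL g x
  rw [← map_mul, ← map_mul, (conjGL_injective g).eq_iff]

/-- A cyclic torus of order `q - 1` or `q + 1`, whichever is divisible by `4`. -/
theorem exists_torus (hodd : Odd (Fintype.card F)) :
    ∃ (n : ℕ) (t : SL2 F), ((n + 1 = Fintype.card F) ∨ n = Fintype.card F + 1) ∧ 4 ∣ n ∧ orderOf t = n ∧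
      Nat.card (normalizer ((zpowers t : Subgroup (SL2 F)) : Set (SL2 F))) = 2 * n := by
  obtain ⟨k, hk⟩ := hodd
  have hq2 : 2 ≤ Fintype.card F := Fintype.one_lt_card
  by_cases h4 : 4 ∣ Fintype.card F + 1
  · obtain ⟨T, hTc, hTn, hcc, -, -, hN, -⟩ :=
      Cfsg.Agent.S2429.result (F := F) ⟨k, hk⟩
    obtain ⟨t, ht⟩ := hTc.exists_generator
    have hT : zpowers (t : SL2 F) = T := by
      refine le_antisymm (zpowers_le.2 t.2) fun x hx => ?_
      obtain ⟨i, hi⟩ := mem_zpowers_iff.1 (ht ⟨x, hx⟩)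
      exact mem_zpowers_iff.2 ⟨i, by simpa using congrArg Subtype.val hi⟩
    refine ⟨_, t, Or.inr rfl, h4, ?_, ?_⟩
    · rw [← Nat.card_zpowers, hT, hTn]
    · rw [hT, hN]
  · obtain ⟨g, hg⟩ := IsCyclic.exists_ofOrder_eq_natCard (α := Fˣ)
    rw [Nat.card_units, Nat.card_eq_fintype_card] at hg
    let d : SL2 F := Linear.splitTorus g
    have hod : orderOf d = Fintype.card F - 1 := by
      rw [orderOf_injective _ Linear.splitTorus_injective g, hg]
    have hd01 : d.1 0 1 = 0 := rfl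
    have hd10 : d.1 1 0 = 0 := rfl
    have hd00 : d.1 0 0 = g := rfl
    have hda : d.1 0 0 ^ 2 ≠ 1 := by
      rw [hd00, ← Units.val_pow_eq_pow_val, Ne, Units.val_eq_one, ← orderOf_dvd_iff_pow_eq_one, hg]
      intro h
      have := Nat.le_of_dvd two_pos h
      omega
    obtain ⟨hcent, hN, -, -⟩ := Cfsg.Agent.S2428.result ⟨k, hk⟩ d hd01 hd10 hda
    have hzd : zpowers d = centralizer {d} := by
      refine le_antisymm (zpowers_le.2 (mem_centralizer_singleton_iff.2 rfl)) fun x hx => ?_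
      obtain ⟨h01, h10⟩ := (hcent x).1 hx
      have hx' := det_eq x
      rw [h01, h10, mul_zero, sub_zero] at hx'
      obtain ⟨i, hi⟩ : ∃ i : ℤ, g ^ i = (⟨x 0 0, x 1 1, hx', (mul_comm _ _).trans hx'⟩ : Fˣ) := by
        rw [← mem_zpowers_iff]
        have htop : zpowers g = (⊤ : Subgroup Fˣ) := by
          refine eq_top_of_card_eq _ ?_
          rw [Nat.card_zpowers, hg, Nat.card_units, Nat.card_eq_fintype_card]
        rw [htop]
        exact mem_top _
      refine mem_zpowers_iff.2 ⟨i, ?_⟩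
      rw [← map_zpow, hi]
      apply ext2
      · rfl
      · exact h01.symm
      · exact h10.symm
      · rfl
    refine ⟨_, d, Or.inl ?_, ?_, hod, ?_⟩
    · omega
    · omega
    · rw [hzd, hN]

variable {p : ℕ} [Fact p.Prime]

omit [Fintype F] in
theorem isScal_of_commuting_or (x : SL2 F) : x = 1 ∨ x = -1 ∨ ¬ IsScal x := by
  by_cases h : IsScal x
  · rcases h.eq_one_or with h | h
    · exact Or.inl h
    · exact Or.inr (Or.inl h)
  · exact Or.inr (Or.inr h)

omit [Fintype F] in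
theorem not_scal_of_orderOf {x : SL2 F} (h1 : orderOf x ≠ 1) (h2 : orderOf x ≠ 2) : ¬ IsScal x := by
  intro h
  rcases h.eq_one_or with rfl | rfl
  · exact h1 orderOf_one
  · have hdvd : orderOf (-1 : SL2 F) ∣ 2 :=
      orderOf_dvd_of_pow_eq_one (by rw [pow_two, neg_mul_neg, one_mul])
    rcases (Nat.dvd_prime Nat.prime_two).1 hdvd with e | e
    · exact h1 e
    · exact h2 e

/-- A Sylow subgroup contained in a unique one cannot be redundant. -/
theorem not_redundant_of_generator {G : Type*} [Group G] {Q : Sylow p G} {x : G} (hx : x ∈ Q)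
    (h : ∀ P : Sylow p G, x ∈ P → P = Q) : ¬ Redundant Q := by
  intro hr
  obtain ⟨k, hk⟩ := Q.isPGroup' ⟨x, hx⟩
  obtain ⟨P, hne, hP⟩ := hr x (exists_orderOf_iff.2 ⟨k, congrArg Subtype.val hk⟩)
  exact hne (h P hP)

/-- Odd primes other than the characteristic. -/
theorem not_redundant_cross (ℓ : ℕ) [Fact ℓ.Prime] [CharP F ℓ] (hp2 : p ≠ 2) (hpl : p ≠ ℓ)
    (Q : Sylow p (SL2 F)) : ¬ Redundant Q := by
  obtain ⟨⟨x, hx⟩, hgen⟩ := (Linear.isCyclic_sylow_SL2 ℓ p hp2 hpl Q).exists_generator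
  refine not_redundant_of_generator hx fun P hP => ?_
  have hle : (Q : Subgroup (SL2 F)) ≤ P := by
    intro y hy
    obtain ⟨i, hi⟩ := mem_zpowers_iff.1 (hgen ⟨y, hy⟩)
    rw [← show x ^ i = y by simpa using congrArg Subtype.val hi]
    exact zpow_mem hP i
  exact Sylow.ext (Q.is_maximal' P.isPGroup' hle)

theorem sylow_comm [CharP F p] (P : Sylow p (SL2 F)) {a b : SL2 F} (ha : a ∈ P) (hb : b ∈ P) :
    a * b = b * a := by
  let e := P.equiv (Linear.sylowU2 p)
  have hU : ∀ u v : ((Linear.sylowU2 p : Sylow p (SL2 F)) : Subgroup (SL2 F)), u * v = v * u := by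
    rintro ⟨u, hu⟩ ⟨v, hv⟩
    rw [Linear.coe_sylowU2] at hu hv
    obtain ⟨i, rfl⟩ := hu
    obtain ⟨j, rfl⟩ := hv
    apply Subtype.ext
    show Linear.uHom i * Linear.uHom j = Linear.uHom j * Linear.uHom i
    rw [← map_mul, mul_comm, map_mul]
  have h : (⟨a, ha⟩ : (P : Subgroup (SL2 F))) * ⟨b, hb⟩ = ⟨b, hb⟩ * ⟨a, ha⟩ :=
    e.injective (by rw [map_mul, map_mul, hU])
  exact congrArg Subtype.val h

theorem not_redundant_char [CharP F p] (Q : Sylow p (SL2 F)) : ¬ Redundant Q := by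
  have hne : (Q : Subgroup (SL2 F)) ≠ ⊥ := by
    refine Q.ne_bot_of_dvd_card ?_
    obtain ⟨k, hk⟩ := Linear.card_eq_prime_pow (F := F) p
    have hk0 : k ≠ 0 := by
      rintro rfl
      have : 2 ≤ Fintype.card F := Fintype.one_lt_card
      simp at hk
      omega
    rw [Linear.card_SL_two]
    exact Dvd.dvd.mul_right (hk ▸ dvd_pow_self p hk0) _
  obtain ⟨x, hx, hx1⟩ : ∃ x ∈ Q, x ≠ 1 := by
    by_contra h
    push Not at h
    exact hne ((eq_bot_iff_forall _).2 h)
  have hns : ¬ IsScal x := by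
    intro h
    rcases h.eq_one_or with rfl | rfl
    · exact hx1 rfl
    · obtain ⟨k, hk⟩ := Q.isPGroup' ⟨(-1 : SL2 F), hx⟩
      have hk' : (-1 : SL2 F) ^ p ^ k = 1 := congrArg Subtype.val hk
      have htr := tr_of_pow (p := p) hk'
      rw [tr_neg, tr_one] at htr
      have h2 : (-1 : F) = 1 := by
        by_contra hne1
        have h4 : (2 : F) * 2 = 0 := by linear_combination -htr
        rcases mul_eq_zero.mp h4 with h | h <;> exact hne1 (by linear_combination -h)
      refine hx1 ?_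
      apply ext2 <;> simp [Matrix.SpecialLinearGroup.coe_neg, h2]
  refine not_redundant_of_generator hx fun P hP => ?_
  have hcomm : ∀ y ∈ P, ∀ z ∈ Q, y * z = z * y := fun y hy z hz =>
    commute_of_commute hns (sylow_comm P hP hy) (sylow_comm Q hx hz)
  have hle : (P : Subgroup (SL2 F)) ≤ normalizer ((Q : Subgroup (SL2 F)) : Set (SL2 F)) := by
    refine le_trans (fun y hy => ?_) (centralizer_le_normalizer _)
    exact mem_centralizer_iff.2 fun z hz => (hcomm y hy z hz).symm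
  have hsup : IsPGroup p ((P : Subgroup (SL2 F)) ⊔ Q : Subgroup (SL2 F)) :=
    P.isPGroup'.to_sup_of_normal_right' Q.isPGroup' hle
  exact Sylow.ext ((P.is_maximal' hsup le_sup_left).symm.trans (Q.is_maximal' hsup le_sup_right))

theorem two_part_card {n : ℕ} (hn : (n + 1 = Fintype.card F) ∨ n = Fintype.card F + 1)
    (hodd : Odd (Fintype.card F)) {a : ℕ} (ha : n = 2 ^ a) (h4 : 4 ∣ n) :
    2 ^ (Nat.card (SL2 F)).factorization 2 = 2 * n := by
  obtain ⟨k, hk⟩ := hodd
  obtain ⟨j, hj⟩ := h4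
  obtain ⟨m, hm, hmo⟩ : ∃ m, Nat.card (SL2 F) = 2 ^ (a + 1) * m ∧ ¬ 2 ∣ m := by
    rw [Linear.card_SL_two]
    rcases hn with hn | hn
    · refine ⟨Fintype.card F * (2 * j + 1), ?_, ?_⟩
      · have : Fintype.card F ^ 2 - 1 = n * (2 * (2 * j + 1)) := by
          apply Nat.sub_eq_of_eq_add
          rw [← hn, hj]; ring
        rw [this, pow_succ, ← ha]; ring
      · intro hd
        rcases Nat.prime_two.dvd_mul.1 hd with h | h <;> omega
    · refine ⟨Fintype.card F * (2 * j - 1), ?_, ?_⟩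
      · obtain ⟨i, rfl⟩ : ∃ i, j = i + 1 := ⟨j - 1, by omega⟩
        have : Fintype.card F ^ 2 - 1 = n * (2 * (2 * (i + 1) - 1)) := by
          apply Nat.sub_eq_of_eq_add
          rw [show Fintype.card F = 4 * i + 3 by omega, show n = 4 * i + 4 by omega,
            show 2 * (i + 1) - 1 = 2 * i + 1 by omega]
          ring
        rw [this, pow_succ, ← ha]; ring
      · intro hd
        rcases Nat.prime_two.dvd_mul.1 hd with h | h <;> omega
  rw [hm, Linear.factorization_pow_mul Nat.prime_two hmo, pow_succ, ← ha, mul_comm]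

theorem not_redundant_two {n : ℕ} {t : SL2 F}
    (hn : (n + 1 = Fintype.card F) ∨ n = Fintype.card F + 1) (hodd : Odd (Fintype.card F))
    (h4 : 4 ∣ n) (ht : orderOf t = n)
    (hN : Nat.card (normalizer ((zpowers t : Subgroup (SL2 F)) : Set (SL2 F))) = 2 * n)
    {a : ℕ} (ha : n = 2 ^ a) (Q : Sylow 2 (SL2 F)) : ¬ Redundant Q := by
  have hcard : ∀ P : Sylow 2 (SL2 F), Nat.card (P : Subgroup (SL2 F)) = 2 * n := fun P => by
    rw [P.card_eq_multiplicity, two_part_card hn hodd ha h4]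
  have key : ∀ P : Sylow 2 (SL2 F), t ∈ P →
      (P : Subgroup (SL2 F)) = normalizer ((zpowers t : Subgroup (SL2 F)) : Set (SL2 F)) := by
    intro P hP
    have hle : zpowers t ≤ (P : Subgroup (SL2 F)) := zpowers_le.2 hP
    have hidx : ((zpowers t).subgroupOf (P : Subgroup (SL2 F))).index = 2 := by
      have h1 := ((zpowers t).subgroupOf (P : Subgroup (SL2 F))).card_mul_index
      rw [Nat.card_congr (subgroupOfEquivOfLe hle).toEquiv, Nat.card_zpowers, ht, hcard] at h1
      have hn0 : 0 < n := by rw [← ht]; exact orderOf_pos t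
      exact Nat.eq_of_mul_eq_mul_left hn0 (h1.trans (mul_comm _ _))
    have hnorm := normal_of_index_eq_two hidx
    refine eq_of_le_of_card_ge ?_ (by rw [hN, hcard])
    exact (normal_subgroupOf_iff_le_normalizer hle).1 hnorm
  obtain ⟨P₀, hP₀⟩ := exists_mem_sylow (p := 2) (x := t) (k := a) (ha ▸ ht ▸ pow_orderOf_eq_one t)
  obtain ⟨g, rfl⟩ := MulAction.exists_smul_eq (SL2 F) P₀ Q
  refine not_redundant_of_generator (x := g * t * g⁻¹) ?_ fun P hP => ?_
  · show g * t * g⁻¹ ∈ ((g • P₀ : Sylow 2 (SL2 F)) : Subgroup (SL2 F))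
    rw [Sylow.coe_subgroup_smul]
    exact ⟨t, hP₀, rfl⟩
  · have hP' : t ∈ g⁻¹ • P := by
      show t ∈ ((g⁻¹ • P : Sylow 2 (SL2 F)) : Subgroup (SL2 F))
      rw [Sylow.coe_subgroup_smul]
      exact ⟨g * t * g⁻¹, hP, by simp [mul_assoc]⟩
    have : g⁻¹ • P = P₀ := Sylow.ext ((key _ hP').trans (key _ hP₀).symm)
    rw [← this, smul_inv_smul]

theorem exists_ne_of_nonscal (ℓ : ℕ) [Fact ℓ.Prime] [CharP F ℓ] (hl : ℓ ≠ 2) {r : ℕ} (hr : r.Prime)
    (hr2 : r ≠ 2) (hdvd : r ∣ Nat.card (centralizer ({c0} : Set (SL2 F))))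
    (Q : Sylow 2 (SL2 F)) {x : SL2 F} (hx : x ∈ Q) (hns : ¬ IsScal x) :
    ∃ P : Sylow 2 (SL2 F), P ≠ Q ∧ x ∈ P := by
  have h2 : (2 : F) ≠ 0 := two_ne_zero' hl
  obtain ⟨k, hk⟩ := exists_orderOf_iff.2 ((Q.isPGroup' ⟨x, hx⟩).imp fun _ h => congrArg Subtype.val h)
  have hk2 : 2 ≤ k := by
    by_contra hc
    have hsq : x * x = 1 := by
      rw [← pow_two, ← orderOf_dvd_iff_pow_eq_one, hk]
      simpa using Nat.pow_dvd_pow 2 (show k ≤ 1 by omega)
    rcases eq_one_or_of_sq hl hsq with e | e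
    · exact hns (e ▸ ⟨by simp, by simp, by simp⟩)
    · exact hns (e ▸ ⟨by simp [Matrix.SpecialLinearGroup.coe_neg],
        by simp [Matrix.SpecialLinearGroup.coe_neg], by simp [Matrix.SpecialLinearGroup.coe_neg]⟩)
  obtain ⟨j, rfl⟩ : ∃ j, k = j + 2 := ⟨k - 2, by omega⟩
  set y := x ^ 2 ^ j with hy_def
  have hy4 : orderOf y = 4 := by
    rw [hy_def, orderOf_pow_of_dvd (by positivity) (by rw [hk]; exact ⟨4, by ring⟩), hk,
      pow_add, Nat.mul_div_cancel_left _ (by positivity)]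
    norm_num
  have hyns : ¬ IsScal y := not_scal_of_orderOf (by omega) (by omega)
  have hyQ : y ∈ Q := pow_mem hx _
  have hxy : x * y = y * x := (Commute.self_pow x _).eq
  have hysq : y * y = -1 := by
    have h4 : y ^ 4 = 1 := hy4 ▸ pow_orderOf_eq_one y
    refine (eq_one_or_of_sq hl (g := y * y) ?_).resolve_left fun h => ?_
    · rw [← h4]; simp [pow_succ, mul_assoc]
    · have := Nat.le_of_dvd two_pos (orderOf_dvd_of_pow_eq_one (x := y) (by rw [pow_two]; exact h))
      omega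
  have hyinv : y⁻¹ = -y := inv_eq_of_mul_eq_one_right (by rw [mul_neg, hysq, neg_neg])
  have htr : tr y = 0 := by
    have h := congrArg tr hyinv
    rw [tr_inv, tr_neg] at h
    exact (mul_eq_zero.mp (show (2 : F) * tr y = 0 by linear_combination h)).resolve_left h2
  have hy2 : tr y ≠ 2 := by rw [htr]; exact h2.symm
  have hy2' : tr y ≠ -2 := by rw [htr]; exact fun h => h2 (by linear_combination h)
  have : Fact r.Prime := ⟨hr⟩
  rw [← card_centralizer_of_tr_zero h2 htr] at hdvd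
  obtain ⟨⟨u, huC⟩, hu⟩ := exists_prime_orderOf_dvd_card' r hdvd
  rw [Subgroup.orderOf_mk] at hu
  rw [mem_centralizer_singleton_iff] at huC
  have huns : ¬ IsScal u := not_scal_of_orderOf (by rw [hu]; exact hr.ne_one) (by rw [hu]; exact hr2)
  obtain ⟨hu2, hu2'⟩ := tr_ne_of_commute hl hy2 hy2' huC.symm huns
  have hxu : x * u = u * x := commute_of_commute hyns hxy.symm huC.symm
  refine ⟨u • Q, fun heq => ?_, ?_⟩
  swap
  · show x ∈ ((u • Q : Sylow 2 (SL2 F)) : Subgroup (SL2 F))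
    rw [Sylow.coe_subgroup_smul]
    exact ⟨x, hx, by simp [← hxu, mul_assoc]⟩
  -- a proper subgroup of `Q` is properly contained in its normalizer
  let B : Subgroup (Q : Subgroup (SL2 F)) :=
    (centralizer ({y} : Set (SL2 F))).subgroupOf (Q : Subgroup (SL2 F))
  have hBtop : B < ⊤ := by
    refine lt_top_iff_ne_top.2 fun hB => ?_
    have hall : ∀ g : (Q : Subgroup (SL2 F)), y * g = g * y := fun g =>
      (mem_centralizer_singleton_iff.1 (mem_subgroupOf.1 (hB ▸ mem_top g : g ∈ B))).symm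
    obtain ⟨i, hi, ⟨e⟩⟩ := Linear.sylow_two_SL2 ℓ hl Q
    have hc : QuaternionGroup.a (1 : ZMod (2 * 2 ^ i)) * QuaternionGroup.xa 0 =
        QuaternionGroup.xa 0 * QuaternionGroup.a 1 := by
      apply e.symm.injective
      rw [map_mul, map_mul]
      exact Subtype.ext (commute_of_commute hyns (hall _) (hall _))
    rw [QuaternionGroup.a_mul_xa, QuaternionGroup.xa_mul_a, QuaternionGroup.xa.injEq, zero_sub,
      zero_add] at hc
    have h20 : ((2 : ℕ) : ZMod (2 * 2 ^ i)) = 0 := by push_cast; linear_combination -hc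
    rw [ZMod.natCast_eq_zero_iff] at h20
    have := Nat.le_of_dvd two_pos h20
    have : 2 ^ 1 ≤ 2 ^ i := Nat.pow_le_pow_right two_pos hi
    omega
  have : Group.IsNilpotent (Q : Subgroup (SL2 F)) := Q.isPGroup'.isNilpotent
  obtain ⟨w, hwN, hwB⟩ := SetLike.exists_of_lt (Group.normalizerCondition_of_isNilpotent B hBtop)
  have hyB : (⟨y, hyQ⟩ : (Q : Subgroup (SL2 F))) ∈ B :=
    mem_subgroupOf.2 (mem_centralizer_singleton_iff.2 rfl)
  have hwy := mem_centralizer_singleton_iff.1 (mem_subgroupOf.1 ((mem_normalizer_iff.1 hwN _).1 hyB))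
  simp only [Subgroup.coe_mul, Subgroup.coe_inv] at hwy
  have hwB' : ¬ ((w : SL2 F) * y = y * w) := fun h =>
    hwB (mem_subgroupOf.2 (mem_centralizer_singleton_iff.2 h))
  have hwinv : (w : SL2 F) * y * (w : SL2 F)⁻¹ = y⁻¹ :=
    (eq_or_inv hl hy2 hy2' hwy.symm (tr_conj _ _)).resolve_left fun h =>
      hwB' (mul_inv_eq_iff_eq_mul.1 h)
  have hcu : y * ((w : SL2 F) * u * (w : SL2 F)⁻¹) = (w : SL2 F) * u * (w : SL2 F)⁻¹ * y := by
    have h1 : Commute ((w : SL2 F) * y * (w : SL2 F)⁻¹) ((w : SL2 F) * u * (w : SL2 F)⁻¹) :=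
      (show Commute y u from huC.symm).conj _
    rw [hwinv] at h1
    exact (Commute.inv_left_iff.1 h1).eq
  have hwu : (w : SL2 F) * u * (w : SL2 F)⁻¹ = u⁻¹ := by
    refine (eq_or_inv hl hu2 hu2' (commute_of_commute hyns huC.symm hcu) (tr_conj _ _)).resolve_left
      fun h => hwB' ?_
    exact commute_of_commute huns (mul_inv_eq_iff_eq_mul.1 h).symm huC
  have huwQ : u * (w : SL2 F) * u⁻¹ ∈ (Q : Subgroup (SL2 F)) := by
    have : u * (w : SL2 F) * u⁻¹ ∈ ((u • Q : Sylow 2 (SL2 F)) : Subgroup (SL2 F)) := by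
      rw [Sylow.coe_subgroup_smul]
      exact ⟨w, w.2, rfl⟩
    rwa [heq] at this
  have huu : u * u ∈ (Q : Subgroup (SL2 F)) := by
    have h := mul_mem huwQ (inv_mem w.2)
    have e : u * (w : SL2 F) * u⁻¹ * (w : SL2 F)⁻¹ = u * ((w : SL2 F) * u * (w : SL2 F)⁻¹)⁻¹ := by
      group
    rwa [e, hwu, inv_inv] at h
  obtain ⟨i, hi⟩ := Q.isPGroup' ⟨u * u, huu⟩
  have hi' : u ^ (2 ^ (i + 1)) = 1 := by
    have := congrArg Subtype.val hi
    simp only [Subgroup.coe_pow, Subgroup.coe_one, ← pow_two, ← pow_mul] at this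
    rw [pow_succ, mul_comm]
    exact this
  have := Nat.Prime.dvd_of_dvd_pow hr (hu ▸ orderOf_dvd_of_pow_eq_one hi')
  exact hr2 ((Nat.prime_dvd_prime_iff_eq hr Nat.prime_two).1 this)

theorem redundant_two (ℓ : ℕ) [Fact ℓ.Prime] [CharP F ℓ] (hl : ℓ ≠ 2) {n : ℕ} {t : SL2 F}
    (h4 : 4 ∣ n) (ht : orderOf t = n) (hna : ¬ ∃ a, n = 2 ^ a) (Q : Sylow 2 (SL2 F)) :
    Redundant Q := by
  have hn0 : n ≠ 0 := fun h => (orderOf_pos t).ne' (ht.trans h)
  obtain ⟨r, hr, hrn, hr2⟩ : ∃ r : ℕ, r.Prime ∧ r ∣ n ∧ r ≠ 2 := by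
    by_contra h
    push Not at h
    exact hna ⟨_, Nat.eq_prime_pow_of_unique_prime_dvd hn0 fun hd hdn => h _ hd hdn⟩
  have h2 : (2 : F) ≠ 0 := two_ne_zero' hl
  -- an element of order four in the torus
  obtain ⟨m, hm⟩ := h4
  have hs : orderOf (t ^ m) = 4 := by
    rw [orderOf_pow_of_dvd (by omega) (by rw [ht, hm]; exact dvd_mul_left _ _), ht, hm,
      Nat.mul_div_cancel _ (by omega : 0 < m)]
  have hssq : t ^ m * t ^ m = -1 := by
    have h : (t ^ m) ^ 4 = 1 := hs ▸ pow_orderOf_eq_one _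
    refine (eq_one_or_of_sq hl (g := t ^ m * t ^ m) ?_).resolve_left fun e => ?_
    · rw [← h]; simp [pow_succ, mul_assoc]
    · have := Nat.le_of_dvd two_pos (orderOf_dvd_of_pow_eq_one (x := t ^ m) (by rw [pow_two]; exact e))
      omega
  have htr : tr (t ^ m) = 0 := by
    have h := congrArg tr (inv_eq_of_mul_eq_one_right (a := t ^ m) (b := -(t ^ m))
      (by rw [mul_neg, hssq, neg_neg]))
    rw [tr_inv, tr_neg] at h
    exact (mul_eq_zero.mp (show (2 : F) * tr (t ^ m) = 0 by linear_combination h)).resolve_left h2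
  have hdvd : r ∣ Nat.card (centralizer ({c0} : Set (SL2 F))) := by
    rw [← card_centralizer_of_tr_zero h2 htr]
    refine hrn.trans ?_
    rw [← ht, ← Nat.card_zpowers]
    exact card_dvd_of_le (zpowers_le.2 (mem_centralizer_singleton_iff.2 (Commute.self_pow t m).eq))
  intro x hx
  obtain ⟨k, hk⟩ := exists_orderOf_iff.1 hx
  obtain ⟨P, hP⟩ := exists_mem_sylow hk
  by_cases hPQ : P = Q
  · subst hPQ
    rcases isScal_of_commuting_or x with hs' | hs' | hns
    rotate_left 2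
    · exact exists_ne_of_nonscal ℓ hl hr hr2 hdvd P hP hns
    all_goals
      have hxc : x ∈ Subgroup.center (SL2 F) := by
        rw [Subgroup.mem_center_iff]
        intro g
        simp [hs']
      -- some element outside the centre gives a second Sylow subgroup
      obtain ⟨P', hne, -⟩ : ∃ P' : Sylow 2 (SL2 F), P' ≠ P ∧ (1 : SL2 F) ∈ P' := by
        obtain ⟨i, hi, ⟨e⟩⟩ := Linear.sylow_two_SL2 ℓ hl P
        have he : orderOf ((e.symm (QuaternionGroup.a 1) : (P : Subgroup (SL2 F))) : SL2 F) =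
            2 * 2 ^ i := by
          rw [Subgroup.orderOf_coe, MulEquiv.orderOf_eq, QuaternionGroup.orderOf_a_one]
        have : 2 ^ 1 ≤ 2 ^ i := Nat.pow_le_pow_right two_pos hi
        obtain ⟨P', hne, -⟩ := exists_ne_of_nonscal ℓ hl hr hr2 hdvd P
          (e.symm (QuaternionGroup.a 1)).2 (not_scal_of_orderOf (by rw [he]; omega) (by rw [he]; omega))
        exact ⟨P', hne, one_mem _⟩
      exact ⟨P', hne, mem_of_central hxc hk P'⟩
  · exact ⟨P, hPQ, hP⟩

theorem sl2_iff :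
    (∃ Q : Sylow p (SL2 F), Redundant Q) ↔
      (p = 2 ∧ (¬ ∃ k : ℕ, Fintype.card F + 1 = 2 ^ k) ∧ (¬ ∃ k : ℕ, Fintype.card F = 2 ^ k) ∧
        ¬ ∃ k : ℕ, Fintype.card F = 2 ^ k + 1) := by
  obtain ⟨ℓ, hcl⟩ := CharP.exists F
  have hl : Fact ℓ.Prime := ⟨CharP.char_is_prime F ℓ⟩
  obtain ⟨e, he⟩ := Linear.card_eq_prime_pow (F := F) ℓ
  by_cases hpl : p = ℓ
  · subst hpl
    refine iff_of_false (fun ⟨Q, hQ⟩ => not_redundant_char Q hQ) ?_
    rintro ⟨rfl, -, h2, -⟩
    exact h2 ⟨e, he⟩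
  by_cases hp2 : p = 2
  swap
  · exact iff_of_false (fun ⟨Q, hQ⟩ => not_redundant_cross ℓ hp2 hpl Q hQ) fun h => hp2 h.1
  subst hp2
  have hl2 : ℓ ≠ 2 := fun h => hpl h.symm
  have hodd : Odd (Fintype.card F) := by
    rw [he]
    exact (hl.out.odd_of_ne_two hl2).pow
  obtain ⟨n, t, hn, h4, ht, hN⟩ := exists_torus hodd
  by_cases hna : ∃ a, n = 2 ^ a
  · obtain ⟨a, ha⟩ := hna
    refine iff_of_false (fun ⟨Q, hQ⟩ => not_redundant_two hn hodd h4 ht hN ha Q hQ) ?_
    rintro ⟨-, h1, -, h3⟩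
    rcases hn with hn | hn
    · exact h3 ⟨a, by omega⟩
    · exact h1 ⟨a, by omega⟩
  · refine iff_of_true ⟨default, redundant_two ℓ hl2 h4 ht hna default⟩ ⟨rfl, ?_, ?_, ?_⟩
    · rintro ⟨k, hk⟩
      rcases hn with hn | hn
      · match k with
        | 0 => simp at hk
        | 1 => have : 2 ≤ Fintype.card F := Fintype.one_lt_card; simp at hk; omega
        | k + 2 => rw [pow_add] at hk; omega
      · exact hna ⟨k, by omega⟩
    · rintro ⟨k, hk⟩
      obtain ⟨i, hi⟩ := hodd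
      match k with
      | 0 => have : 2 ≤ Fintype.card F := Fintype.one_lt_card; simp at hk; omega
      | k + 1 => rw [pow_succ] at hk; omega
    · rintro ⟨k, hk⟩
      rcases hn with hn | hn
      · exact hna ⟨k, by omega⟩
      · match k with
        | 0 =>
          obtain ⟨i, hi⟩ := hodd
          simp at hk; omega
        | 1 => exact hna ⟨2, by simp at hk; omega⟩
        | k + 2 => rw [pow_add] at hk; omega

end Cfsg.Agent.FGS4.SL2Redundant
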