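import Mathlib.GroupTheory.Sylow
import Mathlib.GroupTheory.Nilpotent
import Mathlib.GroupTheory.QuotientGroup.Basic

/-! # Redundant Sylow subgroups and central quotients -/

namespace Cfsg.Agent.FGS4.SL2Redundant

variable {p : ℕ} [Fact p.Prime]

/-- `Q` is redundant. -/
def Redundant {G : Type*} [Group G] (Q : Sylow p G) : Prop :=
  ∀ x : G, (∃ k : ℕ, orderOf x = p ^ k) → ∃ P : Sylow p G, P ≠ Q ∧ x ∈ P

section

variable {G H : Type*} [Group G] [Group H] [Finite G]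

omit [Fact p.Prime] [Finite G] in
theorem exists_mem_sylow {x : G} {k : ℕ} (hx : x ^ p ^ k = 1) : ∃ P : Sylow p G, x ∈ P := by
  have h : IsPGroup p (Subgroup.zpowers x) := by
    rintro ⟨y, hy⟩
    obtain ⟨n, rfl⟩ := Subgroup.mem_zpowers_iff.1 hy
    refine ⟨k, Subtype.ext ?_⟩
    rw [Subgroup.coe_pow, Subgroup.coe_one, ← zpow_natCast, ← zpow_mul, mul_comm, zpow_mul,
      zpow_natCast, hx, one_zpow]
  obtain ⟨P, hP⟩ := h.exists_le_sylow
  exact ⟨P, hP (Subgroup.mem_zpowers x)⟩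

omit [Fact p.Prime] [Finite G] in
theorem mem_of_central {x : G} (hc : x ∈ Subgroup.center G) {k : ℕ} (hx : x ^ p ^ k = 1)
    (P : Sylow p G) : x ∈ P := by
  have h : IsPGroup p (Subgroup.zpowers x) := by
    rintro ⟨y, hy⟩
    obtain ⟨n, rfl⟩ := Subgroup.mem_zpowers_iff.1 hy
    refine ⟨k, Subtype.ext ?_⟩
    rw [Subgroup.coe_pow, Subgroup.coe_one, ← zpow_natCast, ← zpow_mul, mul_comm, zpow_mul,
      zpow_natCast, hx, one_zpow]
  have : (Subgroup.zpowers x).Normal := by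
    refine ⟨fun a ha g => ?_⟩
    have : a ∈ Subgroup.center G := Subgroup.zpowers_le.2 hc ha
    rwa [(Subgroup.mem_center_iff.1 this g), mul_inv_cancel_right]
  have hsup := P.isPGroup'.to_sup_of_normal_right h
  have h' : x ∈ (P : Subgroup G) ⊔ Subgroup.zpowers x :=
    Subgroup.mem_sup_right (Subgroup.mem_zpowers x)
  rwa [P.is_maximal' hsup le_sup_left] at h'

omit [Finite G] in
theorem exists_orderOf_iff {x : G} : (∃ k : ℕ, orderOf x = p ^ k) ↔ ∃ k : ℕ, x ^ p ^ k = 1 := by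
  refine ⟨fun ⟨k, hk⟩ => ⟨k, hk ▸ pow_orderOf_eq_one x⟩, fun ⟨k, hk⟩ => ?_⟩
  obtain ⟨j, -, hj⟩ := (Nat.dvd_prime_pow Fact.out).1 (orderOf_dvd_of_pow_eq_one hk)
  exact ⟨j, hj⟩

variable (π : G →* H) (hπ : Function.Surjective π) (hker : π.ker ≤ Subgroup.center G)

omit [Fact p.Prime] [Finite G] in
include hker in
theorem mem_of_map_mem (P : Sylow p G) {x : G} {k : ℕ} (hx : x ^ p ^ k = 1)
    (hm : π x ∈ (P : Subgroup G).map π) : x ∈ P := by
  obtain ⟨y, hy, hxy⟩ := hm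
  obtain ⟨j, hj⟩ := P.isPGroup' ⟨y, hy⟩
  have hj' : y ^ p ^ j = 1 := congrArg Subtype.val hj
  have hz : y⁻¹ * x ∈ Subgroup.center G := hker (by simp [MonoidHom.mem_ker, hxy])
  have hc : Commute y⁻¹ x := by
    have h := Subgroup.mem_center_iff.1 hz y
    show y⁻¹ * x = x * y⁻¹
    calc y⁻¹ * x = y⁻¹ * x * y * y⁻¹ := by group
      _ = y * (y⁻¹ * x) * y⁻¹ := by rw [h]
      _ = x * y⁻¹ := by group
  have hz' : (y⁻¹ * x) ^ p ^ (j + k) = 1 := by
    rw [hc.mul_pow, inv_pow, pow_add, pow_mul, hj', mul_comm (p ^ j), pow_mul, hx]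
    simp
  have := mul_mem (show y ∈ (P : Subgroup G) from hy) (mem_of_central hz hz' P)
  rwa [mul_inv_cancel_left] at this

include hπ hker in
theorem mapSurjective_injective :
    Function.Injective (fun P : Sylow p G => P.mapSurjective hπ) := by
  intro P Q h
  have hle : (P : Subgroup G) ≤ Q := by
    intro x hx
    obtain ⟨j, hj⟩ := P.isPGroup' ⟨x, hx⟩
    refine mem_of_map_mem π hker Q (k := j) (congrArg Subtype.val hj) ?_
    have := congrArg (fun R : Sylow p H => (R : Subgroup H)) h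
    simp only [Sylow.coe_mapSurjective] at this
    rw [← this]
    exact ⟨x, hx, rfl⟩
  exact Sylow.ext (P.is_maximal' Q.isPGroup' hle).symm

include hπ hker in
theorem exists_redundant_iff :
    (∃ Q : Sylow p G, Redundant Q) ↔ ∃ Q : Sylow p H, Redundant Q := by
  have : Finite H := Finite.of_surjective π hπ
  constructor
  · rintro ⟨Q, hQ⟩
    refine ⟨Q.mapSurjective hπ, fun h hh => ?_⟩
    obtain ⟨k, hk⟩ := exists_orderOf_iff.1 hh
    obtain ⟨Ph, hPh⟩ := exists_mem_sylow hk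
    obtain ⟨P, rfl⟩ := Sylow.mapSurjective_surjective hπ p Ph
    have hPh' : h ∈ (P : Subgroup G).map π := by rwa [← Sylow.coe_mapSurjective hπ]
    obtain ⟨x, hx, rfl⟩ := hPh'
    obtain ⟨j, hj⟩ := P.isPGroup' ⟨x, hx⟩
    obtain ⟨P', hne, hx'⟩ := hQ x (exists_orderOf_iff.2 ⟨j, congrArg Subtype.val hj⟩)
    refine ⟨P'.mapSurjective hπ, fun e => hne (mapSurjective_injective π hπ hker e), ?_⟩
    show π x ∈ ((P'.mapSurjective hπ : Sylow p H) : Subgroup H)
    rw [Sylow.coe_mapSurjective]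
    exact ⟨x, hx', rfl⟩
  · rintro ⟨Qh, hQh⟩
    obtain ⟨Q, rfl⟩ := Sylow.mapSurjective_surjective hπ p Qh
    refine ⟨Q, fun x hx => ?_⟩
    obtain ⟨k, hk⟩ := exists_orderOf_iff.1 hx
    obtain ⟨Ph, hne, hmem⟩ := hQh (π x) (exists_orderOf_iff.2 ⟨k, by rw [← map_pow, hk, map_one]⟩)
    obtain ⟨P, rfl⟩ := Sylow.mapSurjective_surjective hπ p Ph
    refine ⟨P, fun e => hne (by rw [e]), mem_of_map_mem π hker P hk ?_⟩
    rwa [← Sylow.coe_mapSurjective hπ]

end

end Cfsg.Agent.FGS4.SL2Redundant
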